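/-
Ranks of composites of finite flat morphisms; closed immersions between finite flat schemes of the
same rank.
-/
import Mathlib.AlgebraicGeometry.Morphisms.FlatRank
import Mathlib.RingTheory.LocalRing.Module
import Mathlib.RingTheory.Artinian.Module
import Mathlib.LinearAlgebra.Dimension.StrongRankCondition
import Mathlib.AlgebraicGeometry.ResidueField

universe u

open CategoryTheory CategoryTheory.Limits AlgebraicGeometry TensorProduct

namespace Groth.BTExact

theorem finrank_rank_tower {K B C : Type u} [Field K] [CommRing B] [Algebra K B] [Module.Finite K B]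
    [AddCommGroup C] [Module B C] [Module K C] [IsScalarTower K B C] [Module.Finite B C]
    [Module.Flat B C] (n : ℕ) (hn : ∀ p : PrimeSpectrum B, Module.rankAtStalk C p = n) :
    Module.finrank K C = n * Module.finrank K B := by
  rcases subsingleton_or_nontrivial B with hB | hB
  · have : Subsingleton C := Module.subsingleton B C
    rw [Module.finrank_zero_of_subsingleton, Module.finrank_zero_of_subsingleton, mul_zero]
  have : IsArtinianRing B := IsArtinianRing.of_finite K B
  have : Module.Free B C := Module.free_of_flat_of_finrank_eq B C n fun P => by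
    have := P.isMaximal
    letI := Ideal.Quotient.field P.1
    have h := congrFun (Module.rankAtStalk_eq_finrank_of_free (R := B ⧸ P.1) (M := (B ⧸ P.1) ⊗[B] C))
      ⟨⊥, Ideal.isPrime_bot⟩
    rw [Module.rankAtStalk_baseChange, hn] at h
    exact h.symm
  obtain ⟨p⟩ : Nonempty (PrimeSpectrum B) := inferInstance
  have hC : Module.finrank B C = n := by
    rw [← hn p, Module.rankAtStalk_eq_finrank_of_free]; rfl
  rw [← Module.finrank_mul_finrank K B C, hC, mul_comm]

theorem finrank_comp_right_of_isIso {X Y Z : Scheme.{u}} (a : X ⟶ Y) (e : Y ⟶ Z) [IsIso e] [Flat a]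
    [IsFinite a] (z : Z) : (a ≫ e).finrank z = a.finrank ((inv e) z) :=
  Scheme.Hom.finrank_of_isPullback (𝟙 X) (a ≫ e) a (inv e) (IsPullback.of_horiz_isIso ⟨by simp⟩) z

theorem finrank_comp_spec {K : Type u} [Field K] {B C : CommRingCat.{u}} (φ : B ⟶ C)
    (ψ : CommRingCat.of K ⟶ B) (hC1 : φ.hom.Finite) (hC2 : φ.hom.Flat) (hB1 : ψ.hom.Finite)
    (hB2 : ψ.hom.Flat) (n : ℕ) (hn : ∀ y, (Spec.map φ).finrank y = n) (s : (Spec (.of K) :)) :
    (Spec.map φ ≫ Spec.map ψ).finrank s = n * (Spec.map ψ).finrank s := by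
  algebraize [φ.hom, ψ.hom, φ.hom.comp ψ.hom]
  have : Module.Finite K B := hB1
  have : Module.Flat K B := hB2
  have : Module.Finite B C := hC1
  have : Module.Flat B C := hC2
  have hcomp : (ψ ≫ φ).hom = algebraMap K C := rfl
  have : Module.Finite K C := Module.Finite.trans B C
  have : Module.Flat K C := Module.Flat.trans K B C
  have hrC : ∀ p : PrimeSpectrum B, Module.rankAtStalk C p = n := fun p => by
    rw [← Scheme.Hom.finrank_SpecMap_algebraMap B C p]
    exact hn p
  have h1 : (Spec.map φ ≫ Spec.map ψ).finrank s = Module.finrank K C := by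
    rw [← Spec.map_comp]
    change Scheme.Hom.finrank (Spec.map (CommRingCat.ofHom (algebraMap K C))) s = _
    rw [Scheme.Hom.finrank_SpecMap_algebraMap, Module.rankAtStalk_eq_finrank_of_free]
    rfl
  have h2 : (Spec.map ψ).finrank s = Module.finrank K B := by
    change Scheme.Hom.finrank (Spec.map (CommRingCat.ofHom (algebraMap K B))) s = _
    rw [Scheme.Hom.finrank_SpecMap_algebraMap, Module.rankAtStalk_eq_finrank_of_free]
    rfl
  rw [h1, h2, finrank_rank_tower n hrC]

/-- Ranks multiply over a field. -/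
theorem finrank_comp_field {K : Type u} [Field K] {X Y : Scheme.{u}} (a : X ⟶ Y)
    (b : Y ⟶ Spec (.of K)) [Flat a] [IsFinite a] [Flat b] [IsFinite b] (n : ℕ)
    (hn : ∀ y, a.finrank y = n) (s : (Spec (.of K) :)) :
    (a ≫ b).finrank s = n * b.finrank s := by
  have : IsAffine Y := isAffine_of_isAffineHom b
  have : IsAffine X := isAffine_of_isAffineHom a
  let a' : Spec Γ(X, ⊤) ⟶ Spec Γ(Y, ⊤) := X.isoSpec.inv ≫ a ≫ Y.isoSpec.hom
  let b' : Spec Γ(Y, ⊤) ⟶ Spec (.of K) := Y.isoSpec.inv ≫ b
  have ha : IsFinite a' ∧ Flat a' := ⟨inferInstance, inferInstance⟩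
  have hb : IsFinite b' ∧ Flat b' := ⟨inferInstance, inferInstance⟩
  obtain ⟨φ, hφ⟩ := Spec.map_surjective a'
  obtain ⟨ψ, hψ⟩ := Spec.map_surjective b'
  rw [← hφ] at ha
  rw [← hψ] at hb
  have e1 := finrank_comp_spec φ ψ ((IsFinite.SpecMap_iff φ).1 ha.1) (Flat.SpecMap_iff.1 ha.2)
    ((IsFinite.SpecMap_iff ψ).1 hb.1) (Flat.SpecMap_iff.1 hb.2) n (fun y => by
      rw [hφ]
      simp only [a', Scheme.Hom.finrank_comp_left_of_isIso, finrank_comp_right_of_isIso, hn]) s
  rw [hφ, hψ] at e1
  simp only [a', b', Category.assoc, Iso.hom_inv_id_assoc, Scheme.Hom.finrank_comp_left_of_isIso] at e1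
  exact e1

/-- The rank of a composite of finite flat morphisms, the first of constant rank. -/
theorem finrank_comp {X Y S : Scheme.{u}} (f : X ⟶ Y) (g : Y ⟶ S) [Flat f] [IsFinite f] [Flat g]
    [IsFinite g] (n : ℕ) (hn : ∀ y, f.finrank y = n) (s : S) :
    (f ≫ g).finrank s = n * g.finrank s := by
  let j := S.fromSpecResidueField s
  obtain ⟨x⟩ : Nonempty (Spec (S.residueField s)) := inferInstance
  have hx : j x = s := S.fromSpecResidueField_apply s x
  have hsq := (IsPullback.of_hasPullback f (pullback.fst g j)).paste_vert (IsPullback.of_hasPullback g j)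
  rw [← hx, ← Scheme.Hom.finrank_of_isPullback _ _ _ _ hsq x, ← Scheme.Hom.finrank_pullback_snd g j x]
  exact finrank_comp_field (K := S.residueField s) _ _ n
    (fun y => by rw [Scheme.Hom.finrank_pullback_snd, hn]) x

theorem bijective_of_surjective_of_rankAtStalk_eq {R M N : Type u} [CommRing R] [AddCommGroup M]
    [Module R M] [AddCommGroup N] [Module R N] [Module.Finite R M] [Module.Flat R M] [Module.Finite R N]
    [Module.Flat R N] (π : M →ₗ[R] N) (hπ : Function.Surjective π)
    (h : ∀ p : PrimeSpectrum R, Module.rankAtStalk M p = Module.rankAtStalk N p) :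
    Function.Bijective π := by
  refine ⟨?_, hπ⟩
  refine (injective_iff_map_eq_zero π).2 fun m hm => ?_
  refine Module.eq_zero_of_localization_maximal (R := R)
    (fun (P : Ideal R) _ => LocalizedModule P.primeCompl M)
    (fun (P : Ideal R) _ => LocalizedModule.mkLinearMap P.primeCompl M) m fun P hP => ?_
  let A := Localization P.primeCompl
  let πP := LocalizedModule.map P.primeCompl π
  have hs : Function.Surjective πP := LocalizedModule.map_surjective _ π hπ
  have : Module.Free A (LocalizedModule P.primeCompl M) := Module.free_of_flat_of_isLocalRing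
  have : Module.Free A (LocalizedModule P.primeCompl N) := Module.free_of_flat_of_isLocalRing
  have he := h ⟨P, hP.isPrime⟩
  let e : LocalizedModule P.primeCompl N ≃ₗ[A] LocalizedModule P.primeCompl M :=
    LinearEquiv.ofFinrankEq _ _ he.symm
  have hinj : Function.Injective (e.toLinearMap.comp πP) :=
    OrzechProperty.injective_of_surjective_endomorphism _ (e.surjective.comp hs)
  apply hinj
  rw [map_zero]
  have : πP (LocalizedModule.mkLinearMap P.primeCompl M m) = 0 := by
    rw [LocalizedModule.mkLinearMap_apply, LocalizedModule.map_mk, hm, LocalizedModule.zero_mk]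
  rw [LinearMap.comp_apply, this, map_zero]

/-- A closed immersion over an affine base between finite flat schemes of the same rank. -/
theorem isIso_of_finrank_eq_affine {R : CommRingCat.{u}} {Q G : Scheme.{u}} (i : Q ⟶ G)
    (g : G ⟶ Spec R) [IsClosedImmersion i] [IsFinite g] [Flat g] [Flat (i ≫ g)]
    (h : ∀ s, (i ≫ g).finrank s = g.finrank s) : IsIso i := by
  have : IsAffine G := isAffine_of_isAffineHom g
  have : IsAffine Q := isAffine_of_isAffineHom i
  let i' : Spec Γ(Q, ⊤) ⟶ Spec Γ(G, ⊤) := Q.isoSpec.inv ≫ i ≫ G.isoSpec.hom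
  let g' : Spec Γ(G, ⊤) ⟶ Spec R := G.isoSpec.inv ≫ g
  have e : i' ≫ g' = Q.isoSpec.inv ≫ i ≫ g := by simp [i', g']
  have hi' : IsClosedImmersion i' := inferInstance
  have hg' : IsFinite g' ∧ Flat g' := ⟨inferInstance, inferInstance⟩
  have hig : Flat (i' ≫ g') := by rw [e]; infer_instance
  have hr' : ∀ s, (i' ≫ g').finrank s = g'.finrank s := fun s => by
    rw [e, Scheme.Hom.finrank_comp_left_of_isIso, h]
    exact (congrFun (Scheme.Hom.finrank_comp_left_of_isIso G.isoSpec.inv g) s).symm
  suffices IsIso i' by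
    simp only [i', isIso_comp_left_iff, isIso_comp_right_iff] at this
    exact this
  clear_value i' g'
  clear e
  obtain ⟨φ, rfl⟩ := Spec.map_surjective i'
  obtain ⟨ψ, rfl⟩ := Spec.map_surjective g'
  generalize Γ(Q, ⊤) = D, Γ(G, ⊤) = C at φ ψ hi' hg' hig hr'
  have hφ : Function.Surjective φ.hom := by
    have h2 := (IsClosedImmersion.isAffine_surjective_of_isAffine (Spec.map φ)).2
    have e : φ = (Scheme.ΓSpecIso C).inv ≫ (Spec.map φ).appTop ≫ (Scheme.ΓSpecIso D).hom := by simp
    rw [e, CommRingCat.hom_comp, CommRingCat.hom_comp]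
    exact ((ConcreteCategory.bijective_of_isIso (Scheme.ΓSpecIso D).hom).2.comp h2).comp
      (ConcreteCategory.bijective_of_isIso (Scheme.ΓSpecIso C).inv).2
  algebraize [φ.hom, ψ.hom, φ.hom.comp ψ.hom]
  have hC1 : ψ.hom.Finite := (IsFinite.SpecMap_iff ψ).1 hg'.1
  have hC2 : ψ.hom.Flat := Flat.SpecMap_iff.1 hg'.2
  have hD1 : (φ.hom.comp ψ.hom).Finite := (RingHom.Finite.of_surjective _ hφ).comp hC1
  have hD2 : (φ.hom.comp ψ.hom).Flat := by
    have : Flat (Spec.map (ψ ≫ φ)) := by rw [Spec.map_comp]; exact hig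
    exact Flat.SpecMap_iff.1 this
  have : Module.Finite R C := hC1
  have : Module.Flat R C := hC2
  have : Module.Finite R D := hD1
  have : Module.Flat R D := hD2
  have hr : ∀ p : PrimeSpectrum R, Module.rankAtStalk C p = Module.rankAtStalk D p := fun p => by
    rw [← Scheme.Hom.finrank_SpecMap_algebraMap R C p, ← Scheme.Hom.finrank_SpecMap_algebraMap R D p]
    have := hr' p
    rw [← Spec.map_comp] at this
    exact this.symm
  have hb : Function.Bijective φ.hom :=
    bijective_of_surjective_of_rankAtStalk_eq (IsScalarTower.toAlgHom R C D).toLinearMap hφ hr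
  have : IsIso φ := (ConcreteCategory.isIso_iff_bijective φ).2 hb
  infer_instance

/-- A closed immersion between finite flat schemes of the same rank is an isomorphism. -/
theorem isIso_of_finrank_eq {S Q G : Scheme.{u}} (i : Q ⟶ G) (g : G ⟶ S) [IsClosedImmersion i]
    [IsFinite g] [Flat g] [Flat (i ≫ g)] (h : ∀ s, (i ≫ g).finrank s = g.finrank s) : IsIso i := by
  rw [← MorphismProperty.isomorphisms.iff,
    IsZariskiLocalAtTarget.iff_of_openCover (P := .isomorphisms Scheme) (S.affineCover.pullback₁ g)]
  intro (k : S.affineCover.I₀)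
  have hfin : IsFinite (pullback.snd g (S.affineCover.f k)) := MorphismProperty.pullback_snd g _ ‹IsFinite g›
  have hflat : Flat (pullback.snd g (S.affineCover.f k)) := MorphismProperty.pullback_snd g _ ‹Flat g›
  show IsIso (pullback.snd i (pullback.fst g (S.affineCover.f k)))
  have hsq := (IsPullback.of_hasPullback i (pullback.fst g (S.affineCover.f k))).paste_vert
    (IsPullback.of_hasPullback g (S.affineCover.f k))
  have : Flat (pullback.snd i (pullback.fst g (S.affineCover.f k)) ≫ pullback.snd g (S.affineCover.f k)) :=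
    MorphismProperty.of_isPullback hsq inferInstance
  refine @isIso_of_finrank_eq_affine _ _ _ _ _ inferInstance hfin hflat this fun s => ?_
  exact (Scheme.Hom.finrank_of_isPullback _ _ _ _ hsq s).trans
    ((h _).trans (Scheme.Hom.finrank_pullback_snd g (S.affineCover.f k) s).symm)

end Groth.BTExact
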